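import Mathlib

/-!
# Bounded power sums
-/

set_option autoImplicit false
noncomputable section

open Finset Polynomial

namespace Groth.Agent.PowerSumBd

theorem norm_le_one {n : ℕ} (β : Fin n → ℂ) (C : ℝ) (hC : ∀ r : ℕ, 1 ≤ r → ‖∑ i, β i ^ r‖ ≤ C) (i : Fin n) :
    ‖β i‖ ≤ 1 := by
  classical
  by_contra hlt
  rw [not_le] at hlt
  set T := (univ.image β).erase (β i)
  set q : ℂ[X] := Polynomial.C (∏ x ∈ T, (β i - x))⁻¹ * ∏ x ∈ T, (X - Polynomial.C x)
  have hne : ∏ x ∈ T, (β i - x) ≠ 0 := prod_ne_zero_iff.2 fun x hx => sub_ne_zero.2 (mem_erase.1 hx).1.symm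
  have hq : ∀ j, q.eval (β j) = if β j = β i then 1 else 0 := fun j => by
    split_ifs with h
    · simp [q, h, eval_prod, inv_mul_cancel₀ hne]
    · simp only [q, eval_mul, eval_prod, eval_sub, eval_X, Polynomial.eval_C]
      rw [prod_eq_zero (mem_erase.2 ⟨h, mem_image_of_mem β (mem_univ j)⟩) (sub_self _), mul_zero]
  set m := (univ.filter fun j => β j = β i).card
  have hm : 1 ≤ m := card_pos.2 ⟨i, by simp⟩
  set D : ℝ := ∑ k ∈ range (q.natDegree + 1), ‖q.coeff k‖ * C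
  have key : ∀ r, 1 ≤ r → ‖β i‖ ^ r ≤ D := fun r hr => by
    have e : (m : ℂ) * β i ^ r = ∑ k ∈ range (q.natDegree + 1), q.coeff k * ∑ j, β j ^ (k + r) := by
      calc (m : ℂ) * β i ^ r = ∑ j, q.eval (β j) * β j ^ r := by
            simp only [hq, ite_mul, one_mul, zero_mul]
            rw [← sum_filter, sum_congr rfl fun j hj => by rw [(mem_filter.1 hj).2], sum_const, nsmul_eq_mul]
        _ = _ := by
            simp only [eval_eq_sum_range, sum_mul, mul_sum]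
            rw [sum_comm]
            exact sum_congr rfl fun k _ => sum_congr rfl fun j _ => by rw [pow_add, mul_assoc]
    calc ‖β i‖ ^ r ≤ (m : ℝ) * ‖β i‖ ^ r := le_mul_of_one_le_left (by positivity) (by exact_mod_cast hm)
      _ = ‖(m : ℂ) * β i ^ r‖ := by simp
      _ ≤ D := by
        rw [e]
        refine (norm_sum_le _ _).trans (sum_le_sum fun k _ => ?_)
        rw [norm_mul]
        exact mul_le_mul_of_nonneg_left (hC _ (by omega)) (norm_nonneg _)
  obtain ⟨r, hr⟩ := pow_unbounded_of_one_lt D hlt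
  have := key (r + 1) (by omega)
  rw [pow_succ] at this
  nlinarith [pow_nonneg (norm_nonneg (β i)) r]

theorem rh {g : ℕ} (q : ℕ) (hq : 0 < q) (α : Fin (2 * g) → ℂ) (σ : Equiv.Perm (Fin (2 * g)))
    (hσ : ∀ i, α (σ i) * α i = q) (d : ℕ) (hd : 0 < d) (C : ℝ)
    (hC : ∀ N : ℕ, 1 ≤ N → ‖∑ i, α i ^ (d * N)‖ ≤ C * (q : ℝ) ^ ((d : ℝ) * N / 2)) (i : Fin (2 * g)) :
    ‖α i‖ ^ 2 = q := by
  have hq0 : (0 : ℝ) < q := Nat.cast_pos.2 hq
  set s : ℝ := Real.sqrt q
  have hs : 0 < s := Real.sqrt_pos.2 hq0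
  have hs2 : s ^ 2 = q := Real.sq_sqrt hq0.le
  have hle : ∀ j, ‖α j‖ ≤ s := fun j => by
    have h := norm_le_one (fun j => (α j / (s : ℂ)) ^ d) C (fun r hr => by
      have e : ∑ j, ((α j / (s : ℂ)) ^ d) ^ r = (∑ j, α j ^ (d * r)) / (s : ℂ) ^ (d * r) := by
        rw [sum_div]; simp [← pow_mul, div_pow]
      have e2 : (q : ℝ) ^ ((d : ℝ) * r / 2) = s ^ (d * r) := by
        rw [← Real.rpow_natCast s (d * r), show s = (q : ℝ) ^ ((1 : ℝ) / 2) from Real.sqrt_eq_rpow _,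
          ← Real.rpow_mul hq0.le]
        push_cast; ring_nf
      rw [e, norm_div, norm_pow, Complex.norm_real, Real.norm_of_nonneg hs.le, div_le_iff₀ (pow_pos hs _), ← e2]
      exact hC r hr) j
    rw [norm_pow, pow_le_one_iff_of_nonneg (norm_nonneg _) hd.ne', norm_div, Complex.norm_real,
      Real.norm_of_nonneg hs.le, div_le_one hs] at h
    exact h
  have h1 : ‖α (σ i)‖ * ‖α i‖ = q := by rw [← norm_mul, hσ]; simp
  have h2 : (q : ℝ) ≤ s * ‖α i‖ := h1 ▸ mul_le_mul_of_nonneg_right (hle _) (norm_nonneg _)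
  have h3 : s ≤ ‖α i‖ := le_of_mul_le_mul_left (by rw [← sq, hs2]; exact h2) hs
  rw [le_antisymm (hle i) h3, hs2]

end Groth.Agent.PowerSumBd
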